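import Groth.Agent.GLinExtLib.Coord
import Groth.Agent.GLinShLib.Section
import Groth.Agent.GLinShLib.Inv
import Groth.Agent.GITAffLib.NormalQuot
import Mathlib

/-!
# The restriction of a linearised bundle to the reduction
-/

set_option autoImplicit false
set_option backward.isDefEq.respectTransparency false
set_option synthInstance.maxHeartbeats 400000
set_option maxHeartbeats 1000000
set_option linter.style.haveILetI false
set_option linter.unusedSectionVars false

universe u

open CategoryTheory CategoryTheory.Limits MonoidalCategory CartesianMonoidalCategory AlgebraicGeometry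
  TopologicalSpace Opposite
open scoped MonObj
open GLinExtLib (rs rs_rs rs_self rs_appLE appLE_rs appLE_appLE' appLE_hom)
open GLinShLib (Chart exists_chart)

noncomputable section

namespace GLinRedLib

variable {S : Scheme.{u}} {G X Xr : Over S} [GrpObj G] {a : AlgGrp.Action G X} {ar : AlgGrp.Action G Xr}

/-- `Br` is the pullback of `B` along `j`. -/
structure RedData (B : GLinSh.LinBun G a) (Br : GLinSh.LinBun G ar) (j : Xr ⟶ X) (q : Br.V ⟶ B.V) : Prop where
  clim : IsClosedImmersion j.left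
  red : IsReduced Xr.left
  surj : Function.Surjective j.left.base
  har : ar.act ≫ j = (G ◁ j) ≫ a.act
  hq : Br.π ≫ j = q ≫ B.π
  hlift : Br.lift.act ≫ q = (G ◁ q) ≫ B.lift.act
  hle : ∀ U : X.left.Opens, Br.π.left ⁻¹ᵁ (j.left ⁻¹ᵁ U) ≤ q.left ⁻¹ᵁ (B.π.left ⁻¹ᵁ U)
  hchart : ∀ (U : X.left.Opens) (y : Γ(B.V.left, B.π.left ⁻¹ᵁ U)), y ∈ B.atlas.chart U →
      q.left.appLE (B.π.left ⁻¹ᵁ U) (Br.π.left ⁻¹ᵁ (j.left ⁻¹ᵁ U)) (hle U) y ∈ Br.atlas.chart (j.left ⁻¹ᵁ U)

variable {B : GLinSh.LinBun G a} {Br : GLinSh.LinBun G ar} {j : Xr ⟶ X} {q : Br.V ⟶ B.V}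

theorem RedData.pre_eq (d : RedData B Br j q) (U : X.left.Opens) :
    q.left ⁻¹ᵁ (B.π.left ⁻¹ᵁ U) = Br.π.left ⁻¹ᵁ (j.left ⁻¹ᵁ U) := by
  rw [← Scheme.Hom.comp_preimage, ← Scheme.Hom.comp_preimage, ← Over.comp_left, ← Over.comp_left, d.hq]

theorem RedData.eq_of_preimage_j (d : RedData B Br j q) {U U' : X.left.Opens}
    (h : j.left ⁻¹ᵁ U = j.left ⁻¹ᵁ U') : U = U' :=
  Opens.ext (d.surj.preimage_injective (congrArg (fun O : Xr.left.Opens => (O : Set Xr.left)) h))

/-- The induced chart. -/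
def RedData.chartR (d : RedData B Br j q) (K : Chart B) : Chart Br where
  W := j.left ⁻¹ᵁ K.W
  affine := haveI := d.clim; K.affine.preimage j.left
  U := j.left ⁻¹ᵁ K.U
  le := j.left.preimage_mono K.le
  y := q.left.appLE (B.π.left ⁻¹ᵁ K.U) (Br.π.left ⁻¹ᵁ (j.left ⁻¹ᵁ K.U)) (d.hle K.U) K.y
  mem := d.hchart K.U K.y K.mem

theorem RedData.coord_eq (d : RedData B Br j q) (K : Chart B) :
    q.left.appLE (B.π.left ⁻¹ᵁ K.W) (Br.π.left ⁻¹ᵁ (j.left ⁻¹ᵁ K.W)) (d.hle K.W) K.coord = (d.chartR K).coord := by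
  simp only [Chart.coord, GLinSh.res, RedData.chartR, ← ConcreteCategory.comp_apply, Scheme.Hom.map_appLE,
    Scheme.Hom.appLE_map]

theorem RedData.app_eq (d : RedData B Br j q) (U : X.left.Opens) (c : Γ(X.left, U)) :
    q.left.appLE (B.π.left ⁻¹ᵁ U) (Br.π.left ⁻¹ᵁ (j.left ⁻¹ᵁ U)) (d.hle U) (B.π.left.app U c) =
      Br.π.left.app (j.left ⁻¹ᵁ U) (j.left.app U c) := by
  rw [Scheme.Hom.app_eq_appLE, Scheme.Hom.app_eq_appLE, Scheme.Hom.app_eq_appLE, appLE_appLE', appLE_appLE']
  exact appLE_hom (by rw [← Over.comp_left, ← Over.comp_left, d.hq]) _ _ _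

theorem RedData.eval_eq (d : RedData B Br j q) (K : Chart B) (P : Polynomial Γ(X.left, K.W)) :
    q.left.appLE (B.π.left ⁻¹ᵁ K.W) (Br.π.left ⁻¹ᵁ (j.left ⁻¹ᵁ K.W)) (d.hle K.W)
        (Polynomial.eval₂RingHom (B.π.left.app K.W).hom K.coord P) =
      Polynomial.eval₂RingHom (Br.π.left.app (j.left ⁻¹ᵁ K.W)).hom (d.chartR K).coord
        (P.map (j.left.app K.W).hom) := by
  refine (Polynomial.hom_eval₂ P _ (q.left.appLE _ _ (d.hle K.W)).hom _).trans ?_
  show Polynomial.eval₂ _ (q.left.appLE _ _ (d.hle K.W) K.coord) P = Polynomial.eval₂ _ _ (P.map _)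
  rw [Polynomial.eval₂_map, d.coord_eq]
  congr 1
  exact RingHom.ext fun c => d.app_eq K.W c

theorem RedData.appLE_surjective (d : RedData B Br j q) (K : Chart B) : Function.Surjective
    (q.left.appLE (B.π.left ⁻¹ᵁ K.W) (Br.π.left ⁻¹ᵁ (j.left ⁻¹ᵁ K.W)) (d.hle K.W)) := by
  haveI := d.clim
  intro z
  obtain ⟨P, rfl⟩ := (d.chartR K).bijective.2 z
  obtain ⟨P', rfl⟩ := Polynomial.map_surjective (j.left.app K.W).hom (j.left.app_surjective K.W K.affine) P
  exact ⟨_, d.eval_eq K P'⟩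

theorem RedData.q_clim (d : RedData B Br j q) : IsClosedImmersion q.left := by
  haveI := d.clim
  haveI := B.atlas.affine
  choose K hK _ using fun x : X.left => exists_chart (B := B) x (O := ⊤) trivial
  refine (IsZariskiLocalAtTarget.iff_of_iSup_eq_top (P := @IsClosedImmersion) (fun x => B.π.left ⁻¹ᵁ (K x).W) ?_).2
    fun x => ?_
  · exact top_le_iff.1 fun v _ => Opens.mem_iSup.2 ⟨B.π.left v, hK _⟩
  haveI : IsAffine (B.π.left ⁻¹ᵁ (K x).W).toScheme := (K x).affine_preimage
  haveI : IsAffine (q.left ⁻¹ᵁ (B.π.left ⁻¹ᵁ (K x).W)).toScheme := by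
    rw [d.pre_eq]
    exact (d.chartR (K x)).affine_preimage
  refine IsClosedImmersion.of_surjective_of_isAffine _ ?_
  rw [morphismRestrict_appTop]
  let V := B.π.left ⁻¹ᵁ (K x).W
  have hs : ∀ W : B.V.left.Opens, W = V → Function.Surjective (q.left.app W) := by
    rintro _ rfl
    intro y
    obtain ⟨b, hb⟩ := d.appLE_surjective (K x) (rs (d.pre_eq _).ge y)
    refine ⟨b, ?_⟩
    have := congrArg (rs (d.pre_eq (K x).W).le) hb
    rw [rs_appLE, rs_rs, rs_self] at this
    rw [Scheme.Hom.app_eq_appLE]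
    exact this
  intro z
  obtain ⟨y, hy⟩ := ((ConcreteCategory.isIso_iff_bijective (Br.V.left.presheaf.map
    (eqToHom (image_morphismRestrict_preimage q.left V ⊤)).op)).1 inferInstance).2 z
  obtain ⟨b, hb⟩ := hs _ (Scheme.Opens.ι_image_top _) y
  exact ⟨b, (congrArg _ hb).trans hy⟩

theorem RedData.q_surj (d : RedData B Br j q) : Surjective q.left := by
  haveI := d.clim
  haveI := d.q_clim
  refine ⟨fun v => ?_⟩
  obtain ⟨K, hK, -⟩ := exists_chart (B := B) (B.π.left v) (O := ⊤) trivial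
  by_contra hv
  have hC : IsClosed (Set.range q.left) := q.left.isClosedEmbedding.isClosed_range
  have hKa := K.affine_preimage
  obtain ⟨f, hle, hvf⟩ := hKa.exists_basicOpen_le
    (V := ⟨(Set.range q.left)ᶜ, hC.isOpen_compl⟩) ⟨v, hv⟩ hK
  have h0 : q.left.appLE _ _ (d.hle K.W) f = 0 := by
    haveI : IsReduced Xr.left := d.red
    obtain ⟨P, hP⟩ := (d.chartR K).bijective.2 (q.left.appLE _ _ (d.hle K.W) f)
    have hnil : IsNilpotent (q.left.appLE _ _ (d.hle K.W) f) := by
      refine (Scheme.isNilpotent_iff_basicOpen_eq_bot_of_isCompact (d.chartR K).affine_preimage.isCompact _).2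
        (eq_bot_iff.2 fun w hw => ?_)
      erw [Scheme.basicOpen_appLE] at hw
      exact hle hw.2 ⟨w, rfl⟩
    rw [← hP] at hnil ⊢
    have hP0 : IsNilpotent P := (IsNilpotent.map_iff (d.chartR K).bijective.1).1 hnil
    rw [Polynomial.isNilpotent_iff] at hP0
    rw [show P = 0 from Polynomial.ext fun n => by rw [Polynomial.coeff_zero]; exact (hP0 n).eq_zero, map_zero]
  obtain ⟨P, rfl⟩ := K.bijective.2 f
  rw [d.eval_eq] at h0
  have hPm := (d.chartR K).bijective.1 (h0.trans (map_zero _).symm)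
  have hPn : IsNilpotent P := Polynomial.isNilpotent_iff.2 fun n => by
    refine (Scheme.isNilpotent_iff_basicOpen_eq_bot_of_isCompact K.affine.isCompact _).2 (d.eq_of_preimage_j ?_)
    have := congrArg (fun p => p.coeff n) hPm
    simp only [Polynomial.coeff_map, Polynomial.coeff_zero] at this
    rw [Scheme.preimage_basicOpen]
    refine (congrArg _ this).trans ?_
    rw [Scheme.basicOpen_zero]
    rfl
  have := (Scheme.isNilpotent_iff_basicOpen_eq_bot_of_isCompact hKa.isCompact _).1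
    (hPn.map (Polynomial.eval₂RingHom (B.π.left.app K.W).hom K.coord))
  rw [this] at hvf
  exact hvf

theorem RedData.reduced (d : RedData B Br j q) : IsReduced Br.V.left := by
  haveI := d.clim
  haveI := d.red
  refine @isReduced_of_isReduced_stalk _ fun v => ?_
  obtain ⟨K, hK, -⟩ := exists_chart (B := B) (j.left (Br.π.left v)) (O := ⊤) trivial
  have hW := (d.chartR K).affine_preimage
  let x : ↥(Br.π.left ⁻¹ᵁ (d.chartR K).W) := ⟨v, hK⟩
  letI := TopCat.Presheaf.algebra_section_stalk Br.V.left.presheaf x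
  haveI : IsLocalization.AtPrime (Br.V.left.presheaf.stalk v) (hW.primeIdealOf x).asIdeal := hW.isLocalization_stalk x
  haveI : _root_.IsReduced (Polynomial Γ(Xr.left, (d.chartR K).W)) := ⟨fun P hP =>
    Polynomial.ext fun n => by rw [Polynomial.coeff_zero]; exact (Polynomial.isNilpotent_iff.1 hP n).eq_zero⟩
  haveI : _root_.IsReduced Γ(Br.V.left, Br.π.left ⁻¹ᵁ (d.chartR K).W) :=
    isReduced_of_injective (RingEquiv.ofBijective _ (d.chartR K).bijective).symm
      (RingEquiv.injective _)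
  exact isReduced_localizationPreserves (hW.primeIdealOf x).asIdeal.primeCompl (Br.V.left.presheaf.stalk v) ‹_›

/-- Restrictions of sections. -/
theorem RedData.isInvSection (d : RedData B Br j q) {n : ℕ} {f : Γ(B.V.left, ⊤)} (hf : B.IsInvSection n f) :
    Br.IsInvSection n (q.left.appTop f) := by
  refine ⟨GLinShLib.hasWeight_of_cover fun x => ?_, ?_⟩
  · obtain ⟨K, hK, -⟩ := exists_chart (B := B) (j.left x) (O := ⊤) trivial
    obtain ⟨c, hc⟩ := K.exists_coeff hf.1
    refine ⟨d.chartR K, hK, j.left.app K.W c, ?_⟩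
    have := congrArg (q.left.appLE _ _ (d.hle K.W)) hc
    rw [map_mul, map_pow, d.coord_eq, d.app_eq] at this
    refine Eq.trans ?_ this
    simp only [GLinSh.resTop, Scheme.Hom.appTop, Scheme.Hom.app_eq_appLE, ← ConcreteCategory.comp_apply,
      Scheme.Hom.appLE_map, Scheme.Hom.map_appLE]
    rfl
  · rw [GLinSh.IsInvFn, ← ConcreteCategory.comp_apply, ← ConcreteCategory.comp_apply, ← Scheme.Hom.comp_appTop,
      ← Scheme.Hom.comp_appTop, ← Over.comp_left, ← Over.comp_left, d.hlift, ← whiskerLeft_snd G q, Over.comp_left,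
      Over.comp_left, Scheme.Hom.comp_appTop, Scheme.Hom.comp_appTop, ConcreteCategory.comp_apply,
      ConcreteCategory.comp_apply, hf.2]

theorem RedData.nonvanishing_eq (d : RedData B Br j q) {n : ℕ} {f : Γ(B.V.left, ⊤)} (hf : B.IsInvSection n f) :
    GLinSh.nonvanishing Br.π (q.left.appTop f) = j.left.base ⁻¹' GLinSh.nonvanishing B.π f := by
  ext x
  obtain ⟨K, hK, -⟩ := exists_chart (B := B) (j.left x) (O := ⊤) trivial
  obtain ⟨c, hc⟩ := K.exists_coeff hf.1
  have hc' : GLinSh.resTop Br.π (d.chartR K).W (q.left.appTop f) =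
      Br.π.left.app (d.chartR K).W (j.left.app K.W c) * (d.chartR K).coord ^ n := by
    have := congrArg (q.left.appLE _ _ (d.hle K.W)) hc
    rw [map_mul, map_pow, d.coord_eq, d.app_eq] at this
    refine Eq.trans ?_ this
    simp only [GLinSh.resTop, Scheme.Hom.appTop, Scheme.Hom.app_eq_appLE, ← ConcreteCategory.comp_apply,
      Scheme.Hom.appLE_map, Scheme.Hom.map_appLE]
    rfl
  rw [GLinShLib.mem_nonvanishing_iff (d.chartR K) hc' hK, Set.mem_preimage, GLinShLib.mem_nonvanishing_iff K hc hK]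
  show _ ↔ x ∈ j.left ⁻¹ᵁ X.left.basicOpen c
  rw [Scheme.preimage_basicOpen]

/-- Orbits closed above and below. -/
theorem RedData.closedOrbitsOn_iff (d : RedData B Br j q) (U : X.left.Opens) :
    GLinSh.ClosedOrbitsOn ar (j.left ⁻¹ᵁ U) ↔ GLinSh.ClosedOrbitsOn a U := by
  haveI := d.clim
  haveI : Surjective j.left := ⟨d.surj⟩
  have main : ∀ (T : Over S) (f : T ⟶ Xr),
      IsClosed ((fun p : (fst Xr T).left ⁻¹ᵁ (j.left ⁻¹ᵁ U) => (p : (Xr ⊗ T).left)) ⁻¹' Set.range (GIT.psi ar f).left.base) ↔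
      IsClosed ((fun p : (fst X T).left ⁻¹ᵁ U => (p : (X ⊗ T).left)) ⁻¹' Set.range (GIT.psi a (f ≫ j)).left.base) := by
    intro T f
    have sq := (GITAffLib.isPullback_whiskerRight j T).map (Over.forget S)
    haveI : IsClosedImmersion (j ▷ T).left := MorphismProperty.of_isPullback sq d.clim
    haveI : Surjective (j ▷ T).left := MorphismProperty.of_isPullback sq ‹Surjective j.left›
    let h : (Xr ⊗ T).left ≃ₜ (X ⊗ T).left :=
      (Equiv.ofBijective _ ⟨(j ▷ T).left.isClosedEmbedding.injective, (j ▷ T).left.surjective⟩).toHomeomorphOfContinuousClosed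
        (j ▷ T).left.continuous (j ▷ T).left.isClosedEmbedding.isClosedMap
    have e : GIT.psi ar f ≫ (j ▷ T) = GIT.psi a (f ≫ j) := by
      refine CartesianMonoidalCategory.hom_ext _ _ ?_ ?_
      · simp [GIT.psi, d.har]
      · simp [GIT.psi]
    have hr : Set.range (GIT.psi a (f ≫ j)).left.base = h '' Set.range (GIT.psi ar f).left.base := by
      rw [← e, Over.comp_left, Scheme.Hom.comp_base, TopCat.coe_comp, Set.range_comp]
      rfl
    have hfst : ∀ p, (fst X T).left (h p) = j.left ((fst Xr T).left p) := fun p => by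
      show ((j ▷ T) ≫ fst X T).left p = _
      rw [whiskerRight_fst]; rfl
    let g : ((fst Xr T).left ⁻¹ᵁ (j.left ⁻¹ᵁ U) : (Xr ⊗ T).left.Opens) ≃ₜ ((fst X T).left ⁻¹ᵁ U : (X ⊗ T).left.Opens) :=
      h.subtype fun p => by
        show (fst Xr T).left p ∈ j.left ⁻¹ᵁ U ↔ (fst X T).left (h p) ∈ U
        rw [hfst]
        rfl
    have hg : g ⁻¹' ((fun p : (fst X T).left ⁻¹ᵁ U => (p : (X ⊗ T).left)) ⁻¹' Set.range (GIT.psi a (f ≫ j)).left.base) =
        (fun p : (fst Xr T).left ⁻¹ᵁ (j.left ⁻¹ᵁ U) => (p : (Xr ⊗ T).left)) ⁻¹' Set.range (GIT.psi ar f).left.base := by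
      refine Set.ext fun p => ?_
      show h p.1 ∈ Set.range (GIT.psi a (f ≫ j)).left.base ↔ _
      rw [hr, h.injective.mem_set_image]
      rfl
    rw [← hg]
    exact g.isClosed_preimage
  constructor
  · intro hr Ω _ _ T eT f hf
    haveI : IsReduced T.left := isReduced_of_isOpenImmersion eT.hom
    haveI : IsClosedImmersion (pullback.fst f.left j.left) := MorphismProperty.pullback_fst _ _ d.clim
    haveI : Surjective (pullback.fst f.left j.left) := MorphismProperty.pullback_fst _ _ inferInstance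
    haveI := isIso_of_isClosedImmersion_of_surjective (pullback.fst f.left j.left)
    let f₀ := inv (pullback.fst f.left j.left) ≫ pullback.snd f.left j.left
    have hf₀ : f₀ ≫ j.left = f.left := by
      rw [Category.assoc, ← pullback.condition, IsIso.inv_hom_id_assoc]
    let f' : T ⟶ Xr := Over.homMk f₀ (by rw [← Over.w j, ← Category.assoc, hf₀, Over.w f])
    have ef : f' ≫ j = f := Over.OverMorphism.ext hf₀
    rw [← ef]
    refine (main T f').1 (hr Ω T eT f' ?_)
    rintro _ ⟨t, rfl⟩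
    refine hf ⟨t, ?_⟩
    rw [← hf₀]
    rfl
  · intro hcl Ω _ _ T eT f hf
    refine (main T f).2 (hcl Ω T eT (f ≫ j) ?_)
    rintro _ ⟨t, rfl⟩
    exact hf ⟨t, rfl⟩

end GLinRedLib
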