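import Groth.Agent.GLinExtLib.Coord
import Groth.Agent.GLinShLib.Section
import Groth.Agent.GLinShLib.Inv
import Groth.Agent.GLinTotLib.Coord
import Groth.Agent.FinHomLib.Affine

/-!
# Weight components of functions on the total space
-/

set_option autoImplicit false
set_option backward.isDefEq.respectTransparency false
set_option synthInstance.maxHeartbeats 400000
set_option maxHeartbeats 1000000
set_option linter.style.haveILetI false
set_option linter.unusedSectionVars false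

universe u

open CategoryTheory CategoryTheory.Limits MonoidalCategory CartesianMonoidalCategory AlgebraicGeometry
  TopologicalSpace Opposite
open scoped MonObj
open GLinExtLib (rs rs_rs rs_self rs_appLE appLE_rs appLE_appLE' appLE_hom)
open GLinShLib (Chart exists_chart res_res res_mul res_pow res_app)

noncomputable section

namespace GLinRedLib

variable {S : Scheme.{u}} {G X : Over S} [GrpObj G] {a : AlgGrp.Action G X} {B : GLinSh.LinBun G a}

/-- `s` is the weight `n` component of `t`. -/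
def IsComp (n : ℕ) {U : X.left.Opens} (s t : Γ(B.V.left, B.π.left ⁻¹ᵁ U)) : Prop :=
  ∀ (K : Chart B) (hK : K.W ≤ U) (P : Polynomial Γ(X.left, K.W)),
    Polynomial.eval₂RingHom (B.π.left.app K.W).hom K.coord P = GLinSh.res B.π hK t →
    GLinSh.res B.π hK s = B.π.left.app K.W (P.coeff n) * K.coord ^ n

theorem appLE_eval₂ {V : Scheme.{u}} {O : B.V.left.Opens} {W : X.left.Opens} (m : V ⟶ B.V.left) {W' : V.Opens}
    (h : W' ≤ m ⁻¹ᵁ O) (f : Γ(X.left, W) →+* Γ(B.V.left, O)) (y : Γ(B.V.left, O)) (P : Polynomial Γ(X.left, W)) :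
    m.appLE O W' h (Polynomial.eval₂ f y P) =
      Polynomial.eval₂ ((m.appLE O W' h).hom.comp f) (m.appLE O W' h y) P :=
  Polynomial.hom_eval₂ P f (m.appLE O W' h).hom y

theorem exists_comp (n : ℕ) {U : X.left.Opens} (t : Γ(B.V.left, B.π.left ⁻¹ᵁ U)) :
    ∃ s : Γ(B.V.left, B.π.left ⁻¹ᵁ U), IsComp n s t := by
  let κ := {K : Chart B // K.W ≤ U}
  choose P hP using fun K : κ => K.1.bijective.2 (GLinSh.res B.π K.2 t)
  let v : ∀ K : κ, Γ(B.V.left, B.π.left ⁻¹ᵁ K.1.W) := fun K =>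
    B.π.left.app K.1.W ((P K).coeff n) * K.1.coord ^ n
  have hcompat : TopCat.Presheaf.IsCompatible B.V.left.presheaf (fun K : κ => B.π.left ⁻¹ᵁ K.1.W) v := by
    intro K K'
    refine TopCat.Presheaf.section_ext B.V.left.sheaf _ _ _ fun z hz => ?_
    obtain ⟨W, hW, hzW, hle⟩ := exists_isAffineOpen_mem_and_subset (x := B.π.left z) (U := K.1.W ⊓ K'.1.W) hz
    have h1 : W ≤ K.1.W := fun w hw => (hle hw).1
    have h2 : W ≤ K'.1.W := fun w hw => (hle hw).2
    obtain ⟨u, -, hu⟩ := B.atlas.linear K.1.U K'.1.U K.1.y K'.1.y K.1.mem K'.1.mem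
    have hWU : W ≤ K.1.U ⊓ K'.1.U := le_inf (h1.trans K.1.le) (h2.trans K'.1.le)
    let u' := X.left.presheaf.map (homOfLE hWU).op u
    let y := GLinSh.res B.π h1 K.1.coord
    have hcoord : GLinSh.res B.π h2 K'.1.coord = B.π.left.app W u' * y := by
      have e := congrArg (GLinSh.res B.π hWU) hu
      rw [res_mul, res_res, res_res, res_app] at e
      simp only [y, Chart.coord, res_res]
      exact e
    let E := Polynomial.eval₂RingHom (B.π.left.app W).hom y
    have hbij : Function.Bijective E := by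
      have := B.atlas.coord K.1.U K.1.y K.1.mem W hW (h1.trans K.1.le)
      simpa only [E, y, Chart.coord, res_res] using this
    let r : Γ(X.left, K.1.W) →+* Γ(X.left, W) := (X.left.presheaf.map (homOfLE h1).op).hom
    let r' : Γ(X.left, K'.1.W) →+* Γ(X.left, W) := (X.left.presheaf.map (homOfLE h2).op).hom
    have e1 : GLinSh.res B.π (h1.trans K.2) t = E ((P K).map r) := by
      rw [← res_res h1 K.2, ← hP K]
      refine (Polynomial.hom_eval₂ _ _ (B.V.left.presheaf.map (homOfLE (B.π.left.preimage_mono h1)).op).hom _).trans ?_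
      show _ = Polynomial.eval₂ _ _ _
      rw [Polynomial.eval₂_map]
      congr 1
      exact RingHom.ext fun c => res_app h1 c
    have e2 : GLinSh.res B.π (h1.trans K.2) t = E (((P K').map r').comp (Polynomial.C u' * Polynomial.X)) := by
      rw [show GLinSh.res B.π (h1.trans K.2) t = GLinSh.res B.π h2 (GLinSh.res B.π K'.2 t) from (res_res _ _ _).symm,
        ← hP K']
      refine (Polynomial.hom_eval₂ _ _ (B.V.left.presheaf.map (homOfLE (B.π.left.preimage_mono h2)).op).hom _).trans ?_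
      show _ = Polynomial.eval₂ _ _ _
      rw [Polynomial.eval₂_comp, Polynomial.eval₂_map]
      congr 1
      · exact RingHom.ext fun c => res_app h2 c
      · rw [Polynomial.eval₂_mul, Polynomial.eval₂_C, Polynomial.eval₂_X]
        exact hcoord
    have hc := congrArg (fun p : Polynomial _ => p.coeff n) (hbij.1 (e1.symm.trans e2))
    simp only [Polynomial.coeff_map, Polynomial.comp_C_mul_X_coeff] at hc
    refine TopCat.Presheaf.germ_ext _ (B.π.left ⁻¹ᵁ W) hzW
      (homOfLE (le_inf (B.π.left.preimage_mono h1) (B.π.left.preimage_mono h2)))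
      (homOfLE (le_inf (B.π.left.preimage_mono h1) (B.π.left.preimage_mono h2))) ?_
    have g1 : GLinSh.res B.π h1 (v K) = B.π.left.app W (r ((P K).coeff n)) * y ^ n := by
      rw [res_mul, res_pow, res_app]
    have g2 : GLinSh.res B.π h2 (v K') = B.π.left.app W (r' ((P K').coeff n)) * (B.π.left.app W u' * y) ^ n := by
      rw [res_mul, res_pow, res_app, hcoord]
    rw [mul_pow, ← mul_assoc, ← map_pow, ← map_mul, ← hc] at g2
    show (B.V.left.presheaf.map _ ≫ B.V.left.presheaf.map _) (v K) =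
      (B.V.left.presheaf.map _ ≫ B.V.left.presheaf.map _) (v K')
    rw [← Functor.map_comp, ← Functor.map_comp]
    exact g1.trans g2.symm
  obtain ⟨s₀, hs, -⟩ := B.V.left.sheaf.existsUnique_gluing' (fun K : κ => B.π.left ⁻¹ᵁ K.1.W) (B.π.left ⁻¹ᵁ U)
    (fun K => homOfLE (B.π.left.preimage_mono K.2)) (fun z hz => by
      obtain ⟨K, hzK, hK⟩ := exists_chart (B := B) (B.π.left z) (O := U) hz
      exact Opens.mem_iSup.2 ⟨⟨K, hK⟩, hzK⟩) v hcompat
  refine ⟨s₀, fun K hK Q hQ => ?_⟩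
  have : Q = P ⟨K, hK⟩ := K.bijective.1 (hQ.trans (hP ⟨K, hK⟩).symm)
  subst this
  exact hs ⟨K, hK⟩

/-- The open of `G × V` over an open of `X`. -/
abbrev dom (B : GLinSh.LinBun G a) (U : X.left.Opens) : (G ⊗ B.V).left.Opens :=
  (snd G B.V).left ⁻¹ᵁ (B.π.left ⁻¹ᵁ U)

theorem dom_le {U : X.left.Opens} (hU : GLinShLib.IsInvOpen a U) : dom B U ≤ B.lift.act.left ⁻¹ᵁ (B.π.left ⁻¹ᵁ U) := by
  rw [← Scheme.Hom.comp_preimage, ← Over.comp_left, B.lift_π, Over.comp_left, Scheme.Hom.comp_preimage,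
    show a.act.left ⁻¹ᵁ U = (snd G X).left ⁻¹ᵁ U from hU, ← Scheme.Hom.comp_preimage, ← Over.comp_left,
    whiskerLeft_snd, Over.comp_left, Scheme.Hom.comp_preimage]

/-- The coordinate on `G × V` over an affine open of `G × X`. -/
theorem bijective_coord (K : Chart B) {W : (G ⊗ X).left.Opens} (hW : IsAffineOpen W)
    (hWK : W ≤ (snd G X).left ⁻¹ᵁ K.W)
    (h : (G ◁ B.π).left ⁻¹ᵁ W ≤ (snd G B.V).left ⁻¹ᵁ (B.π.left ⁻¹ᵁ K.W)) :
    Function.Bijective (Polynomial.eval₂RingHom ((G ◁ B.π).left.app W).hom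
      ((snd G B.V).left.appLE (B.π.left ⁻¹ᵁ K.W) ((G ◁ B.π).left ⁻¹ᵁ W) h K.coord)) := by
  haveI := B.atlas.affine
  have H : IsPullback (G ◁ B.π).left (snd G B.V).left (snd G X).left B.π.left := by
    rw [Over.snd_left, Over.snd_left]
    exact Groth.Agent.FinHom.isPullback_whiskerLeft G B.π
  have hPW : (G ◁ B.π).left ⁻¹ᵁ W = (G ◁ B.π).left ⁻¹ᵁ W ⊓ (snd G B.V).left ⁻¹ᵁ (B.π.left ⁻¹ᵁ K.W) :=
    (inf_eq_left.2 h).symm
  have hpush := (isIso_pushoutSection_iff H (le_refl (B.π.left ⁻¹ᵁ K.W)) hWK hPW).1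
    (isIso_pushoutSection_of_isAffineOpen H (le_refl (B.π.left ⁻¹ᵁ K.W)) hWK hPW K.affine K.affine_preimage hW)
  have hy' : Function.Bijective
      (Polynomial.eval₂RingHom (B.π.left.appLE K.W (B.π.left ⁻¹ᵁ K.W) le_rfl).hom K.coord) := by
    rw [← Scheme.Hom.app_eq_appLE]
    exact K.bijective
  have := GLinTotLib.bijective_eval₂_of_isPushout hpush K.coord hy'
  rw [Scheme.Hom.app_eq_appLE]
  exact this

theorem comp_invariant {n : ℕ} {U : X.left.Opens} (hU : GLinShLib.IsInvOpen a U)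
    {s t : Γ(B.V.left, B.π.left ⁻¹ᵁ U)} (hs : IsComp n s t)
    (ht : B.lift.act.left.appLE _ (dom B U) (dom_le hU) t = (snd G B.V).left.appLE _ (dom B U) le_rfl t) :
    B.lift.act.left.appLE _ (dom B U) (dom_le hU) s = (snd G B.V).left.appLE _ (dom B U) le_rfl s := by
  refine TopCat.Presheaf.section_ext (G ⊗ B.V).left.sheaf _ _ _ fun z hz => ?_
  let w := (G ◁ B.π).left z
  have hpw : (snd G X).left w ∈ U := by
    rw [← Scheme.Hom.comp_apply, ← Over.comp_left, whiskerLeft_snd, Over.comp_left, Scheme.Hom.comp_apply]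
    exact hz
  have hσw : a.act.left w ∈ U := (SetLike.ext_iff.1 hU w).2 hpw
  obtain ⟨K, hpK, hKU⟩ := exists_chart (B := B) _ hpw
  obtain ⟨K', hσK, hK'U⟩ := exists_chart (B := B) _ hσw
  obtain ⟨W, hW, hwW, hle⟩ := exists_isAffineOpen_mem_and_subset (x := w)
    (U := a.act.left ⁻¹ᵁ K'.W ⊓ (snd G X).left ⁻¹ᵁ K.W) ⟨hσK, hpK⟩
  have hW1 : W ≤ a.act.left ⁻¹ᵁ K'.W := fun x hx => (hle hx).1
  have hW2 : W ≤ (snd G X).left ⁻¹ᵁ K.W := fun x hx => (hle hx).2
  have eπ1 : B.lift.act.left ≫ B.π.left = (G ◁ B.π).left ≫ a.act.left := by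
    rw [← Over.comp_left, B.lift_π, Over.comp_left]
  have eπ2 : (snd G B.V).left ≫ B.π.left = (G ◁ B.π).left ≫ (snd G X).left := by
    rw [← Over.comp_left, ← Over.comp_left, whiskerLeft_snd]
  let W' := (G ◁ B.π).left ⁻¹ᵁ W
  have h1 : W' ≤ B.lift.act.left ⁻¹ᵁ (B.π.left ⁻¹ᵁ K'.W) := by
    rw [← Scheme.Hom.comp_preimage, eπ1, Scheme.Hom.comp_preimage]
    exact (G ◁ B.π).left.preimage_mono hW1
  have h2 : W' ≤ (snd G B.V).left ⁻¹ᵁ (B.π.left ⁻¹ᵁ K.W) := by
    rw [← Scheme.Hom.comp_preimage, eπ2, Scheme.Hom.comp_preimage]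
    exact (G ◁ B.π).left.preimage_mono hW2
  have hD : W' ≤ dom B U := h2.trans ((snd G B.V).left.preimage_mono (B.π.left.preimage_mono hKU))
  refine TopCat.Presheaf.germ_ext _ W' hwW (homOfLE hD) (homOfLE hD) ?_
  show rs hD _ = rs hD _
  rw [rs_appLE, rs_appLE]
  obtain ⟨c, hc⟩ := B.lift_linear K.U K'.U K.y K'.y K.mem K'.mem
  have hWO : W ≤ a.act.left ⁻¹ᵁ K'.U ⊓ (snd G X).left ⁻¹ᵁ K.U :=
    le_inf (hW1.trans (a.act.left.preimage_mono K'.le)) (hW2.trans ((snd G X).left.preimage_mono K.le))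
  let c' := (G ⊗ X).left.presheaf.map (homOfLE hWO).op c
  let gW : Γ((G ⊗ X).left, W) →+* Γ((G ⊗ B.V).left, W') := ((G ◁ B.π).left.app W).hom
  let yW := (snd G B.V).left.appLE _ W' h2 K.coord
  have hcoord : B.lift.act.left.appLE _ W' h1 K'.coord = gW c' * yW := by
    have hl : W' ≤ GLinSh.liftOpen a B.π K.U K'.U := by
      simp only [GLinSh.liftOpen, Over.comp_left, Scheme.Hom.comp_preimage]
      exact (G ◁ B.π).left.preimage_mono hWO
    have e := congrArg (rs hl) hc
    simp only [rs, map_mul] at e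
    simp only [← ConcreteCategory.comp_apply, Scheme.Hom.appLE_map] at e
    simp only [Chart.coord, GLinSh.res, yW, gW, c', ← ConcreteCategory.comp_apply, Scheme.Hom.map_appLE,
      Scheme.Hom.app_eq_appLE]
    refine e.trans (congrArg (· * _) ?_)
    exact (appLE_rs (G ◁ B.π).left hWO le_rfl c).symm
  let σ' : Γ(X.left, K'.W) →+* Γ((G ⊗ X).left, W) := (a.act.left.appLE K'.W W hW1).hom
  let p' : Γ(X.left, K.W) →+* Γ((G ⊗ X).left, W) := ((snd G X).left.appLE K.W W hW2).hom
  have hσ : ∀ e, B.lift.act.left.appLE _ W' h1 (B.π.left.app K'.W e) = gW (σ' e) := fun e => by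
    show _ = (G ◁ B.π).left.app W (a.act.left.appLE _ W _ e)
    rw [Scheme.Hom.app_eq_appLE, Scheme.Hom.app_eq_appLE, appLE_appLE', appLE_appLE']
    exact appLE_hom eπ1 _ _ _
  have hp : ∀ e, (snd G B.V).left.appLE _ W' h2 (B.π.left.app K.W e) = gW (p' e) := fun e => by
    show _ = (G ◁ B.π).left.app W ((snd G X).left.appLE _ W _ e)
    rw [Scheme.Hom.app_eq_appLE, Scheme.Hom.app_eq_appLE, appLE_appLE', appLE_appLE']
    exact appLE_hom eπ2 _ _ _
  obtain ⟨P, hP⟩ := K.bijective.2 (GLinSh.res B.π hKU t)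
  obtain ⟨P', hP'⟩ := K'.bijective.2 (GLinSh.res B.π hK'U t)
  have ht' := congrArg (rs hD) ht
  rw [rs_appLE, rs_appLE, ← appLE_rs B.lift.act.left (B.π.left.preimage_mono hK'U) h1,
    ← appLE_rs (snd G B.V).left (B.π.left.preimage_mono hKU) h2] at ht'
  change B.lift.act.left.appLE _ W' h1 (GLinSh.res B.π hK'U t) =
    (snd G B.V).left.appLE _ W' h2 (GLinSh.res B.π hKU t) at ht'
  rw [← hP, ← hP', Polynomial.coe_eval₂RingHom, Polynomial.coe_eval₂RingHom, appLE_eval₂, appLE_eval₂] at ht'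
  let E := Polynomial.eval₂RingHom gW yW
  have e1 : E ((P'.map σ').comp (Polynomial.C c' * Polynomial.X)) = E (P.map p') := by
    show Polynomial.eval₂ _ _ _ = Polynomial.eval₂ _ _ _
    rw [Polynomial.eval₂_comp, Polynomial.eval₂_map, Polynomial.eval₂_map, Polynomial.eval₂_mul, Polynomial.eval₂_C,
      Polynomial.eval₂_X, ← hcoord]
    convert ht' using 2 <;> exact RingHom.ext fun e => by first | exact (hσ e).symm | exact (hp e).symm
  have hn := congrArg (fun p : Polynomial _ => p.coeff n) ((bijective_coord K hW hW2 h2).1 e1)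
  simp only [Polynomial.comp_C_mul_X_coeff, Polynomial.coeff_map] at hn
  rw [← appLE_rs B.lift.act.left (B.π.left.preimage_mono hK'U) h1,
    ← appLE_rs (snd G B.V).left (B.π.left.preimage_mono hKU) h2]
  show B.lift.act.left.appLE _ W' h1 (GLinSh.res B.π hK'U s) = (snd G B.V).left.appLE _ W' h2 (GLinSh.res B.π hKU s)
  rw [hs K' hK'U P' hP', hs K hKU P hP, map_mul, map_mul, map_pow, map_pow, hσ, hp, hcoord, ← hn, map_mul, map_pow]
  show _ = _ * yW ^ n
  ring

end GLinRedLib
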