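import Groth.Agent.GITAffLib.Setup
import Groth.Agent.ComodLib.LinRed

/-!
# Invariant functions lift along equivariant closed immersions of affine schemes
-/

set_option autoImplicit false
set_option backward.isDefEq.respectTransparency false
set_option synthInstance.maxHeartbeats 400000
set_option maxHeartbeats 1000000
set_option linter.style.haveILetI false

universe u

noncomputable section

open CategoryTheory MonoidalCategory CartesianMonoidalCategory AlgebraicGeometry TensorProduct Opposite
open scoped MonObj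
open GITAffLib CoactBr

namespace GLinRedLib

variable {k : Type u} [Field k] {A : Type u} [CommRing A] [HopfAlgebra k A]
  {G X X' : Over (Spec (CommRingCat.of k))} [GrpObj G]

theorem exists_invariant_lift (w : sp k A ⟶ G) [IsMonHom w] [IsIso w] {β : A →ₗ[k] k} (hβ : ComodLib.IsInvariant β)
    (h1 : β 1 = 1) [IsAffine X.left] [IsAffine X'.left] (a : AlgGrp.Action G X) (a' : AlgGrp.Action G X')
    (pr : X' ⟶ X) (he : a'.act ≫ pr = (G ◁ pr) ≫ a.act) (hs : Function.Surjective pr.left.appTop)
    {f' : Γ(X'.left, ⊤)} (hf' : a'.act.left.appTop f' = (snd G X').left.appTop f') :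
    ∃ f : Γ(X.left, ⊤), a.act.left.appTop f = (snd G X).left.appTop f ∧ pr.left.appTop f = f' := by
  obtain ⟨R, _, _, ⟨v⟩⟩ := GITAffLib.exists_iso_sp X
  obtain ⟨R', _, _, ⟨v'⟩⟩ := GITAffLib.exists_iso_sp X'
  obtain ⟨π, hπ⟩ := Groth.Agent.DiagRep.exists_pt (v'.hom ≫ pr ≫ v.inv)
  have hπ' : v'.hom ≫ pr = pt π ≫ v.hom := by rw [← hπ]; simp
  letI := comod w v a
  letI := comod w v' a'
  have hev : ∀ f, ev v'.hom (pr.left.appTop f) = π (ev v.hom f) := fun f => by
    rw [← ev_comp, hπ', ev_pt]
  have hhom : Hoch.IsComodHom A π.toLinearMap := by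
    refine LinearMap.ext fun r => ?_
    have h := AlgHom.congr_fun (rho_equivariant w v a v' a' pr π hπ' he) r
    have key : ∀ z : R ⊗[k] A, π.toLinearMap.rTensor A z = Algebra.TensorProduct.map π (AlgHom.id k A) z := fun z => by
      induction z with
      | zero => simp
      | add p q hp hq => simp only [map_add, hp, hq]
      | tmul p q => simp
    show rho w v' a' (π r) = π.toLinearMap.rTensor A (rho w v a r)
    rw [key]
    exact h
  have hsurj : Function.Surjective π.toLinearMap := fun r' => by
    obtain ⟨x', rfl⟩ := (ev_bijective v'.hom).2 r'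
    obtain ⟨x, rfl⟩ := hs x'
    exact ⟨ev v.hom x, (hev x).symm⟩
  obtain ⟨r, hr, hπr⟩ := ComodLib.exists_fixed_lift hβ h1 hhom hsurj
    (w := ev v'.hom f') ((invariant_iff w v' a' f').1 hf')
  obtain ⟨f, rfl⟩ := (ev_bijective v.hom).2 r
  exact ⟨f, (invariant_iff w v a f).2 hr, (ev_bijective v'.hom).1 ((hev f).trans hπr)⟩

end GLinRedLib
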