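import Groth.Agent.GLinExtLib.Coord
import Mathlib

/-!
# Powers of a function on a reduction lift
-/

set_option autoImplicit false
set_option backward.isDefEq.respectTransparency false
set_option synthInstance.maxHeartbeats 400000
set_option maxHeartbeats 1000000
set_option linter.style.haveILetI false
set_option linter.unusedSectionVars false

universe u

open CategoryTheory CategoryTheory.Limits AlgebraicGeometry TopologicalSpace Opposite
open GLinExtLib (rs rs_rs rs_self rs_appLE appLE_rs)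

noncomputable section

namespace GLinRedLib

variable {Y Yr : Scheme.{u}}

theorem isNilpotent_of_basicOpen_eq_bot {W : Y.Opens} (hW : IsCompact (W : Set Y)) {a : Γ(Y, W)}
    (h : Y.basicOpen a = ⊥) : IsNilpotent a :=
  (Scheme.isNilpotent_iff_basicOpen_eq_bot_of_isCompact hW a).2 h

/-- Two functions with the same nonvanishing locus which agree there have equal large powers. -/
theorem pow_eq_pow {W : Y.Opens} (hW : IsCompact (W : Set Y)) (a b : Γ(Y, W))
    (hbo : Y.basicOpen a = Y.basicOpen b) (heq : rs (Y.basicOpen_le b) a = rs (Y.basicOpen_le b) b) :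
    ∃ K₀, ∀ K, K₀ ≤ K → a ^ K = b ^ K := by
  let η := a - b
  have hη0 : η |_ Y.basicOpen b = 0 := by
    show Y.presheaf.map (homOfLE (Y.basicOpen_le b)).op (a - b) = 0
    rw [map_sub, sub_eq_zero]; exact heq
  have hnil : IsNilpotent η := by
    refine isNilpotent_of_basicOpen_eq_bot hW (eq_bot_iff.2 fun z hz => ?_)
    have hzW : z ∈ W := Y.basicOpen_le _ hz
    have hu := (Y.mem_basicOpen η z hzW).1 hz
    by_cases hb : z ∈ Y.basicOpen b
    · refine absurd ?_ (hu.ne_zero)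
      rw [← TopCat.Presheaf.germ_res_apply Y.presheaf (homOfLE (Y.basicOpen_le b)) z hb]
      exact (congrArg _ hη0).trans (map_zero _)
    · refine absurd hu ?_
      have hb' : ¬ IsUnit (Y.presheaf.germ W z hzW b) := fun h => hb ((Y.mem_basicOpen b z hzW).2 h)
      have ha' : ¬ IsUnit (Y.presheaf.germ W z hzW a) := fun h => hb (hbo.le ((Y.mem_basicOpen a z hzW).2 h))
      show ¬ IsUnit (Y.presheaf.germ W z hzW (a - b))
      rw [map_sub, sub_eq_add_neg]
      exact IsLocalRing.nonunits_add ha' (fun h => hb' ((IsUnit.neg_iff _).1 h))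
  obtain ⟨R, hR⟩ := hnil
  obtain ⟨q, hq⟩ := exists_pow_mul_eq_zero_of_res_basicOpen_eq_zero_of_isCompact Y hW η b hη0
  refine ⟨q + R, fun K hK => ?_⟩
  have e : a = η + b := by simp [η]
  rw [e, add_pow, Finset.sum_eq_single 0 (fun r hr hr0 => ?_) (fun h => absurd (Finset.mem_range.2 (Nat.succ_pos K)) h)]
  · simp
  · by_cases hrR : R ≤ r
    · rw [pow_eq_zero_of_le hrR hR, zero_mul, zero_mul]
    · obtain ⟨r', rfl⟩ := Nat.exists_eq_succ_of_ne_zero hr0
      obtain ⟨e', he'⟩ := Nat.exists_eq_add_of_le (show q ≤ K - (r' + 1) by omega)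
      rw [Nat.succ_eq_add_one, pow_succ, he', pow_add,
        show η ^ r' * η * (b ^ q * b ^ e') = η ^ r' * b ^ e' * (b ^ q * η) by ring, hq, mul_zero, zero_mul]

variable (i : Yr ⟶ Y) [Surjective i]

theorem eq_of_preimage_eq {V V' : Y.Opens} (h : i ⁻¹ᵁ V = i ⁻¹ᵁ V') : V = V' :=
  Opens.ext (i.surjective.preimage_injective (congrArg (fun O : Yr.Opens => (O : Set Yr)) h))

/-- On an affine open a function congruent to `s` on the nonvanishing locus of `s` has powers which extend. -/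
theorem exists_ext_pow [IsReduced Yr] {W : Y.Opens} (hW : IsAffineOpen W) (s : Γ(Y, W)) (t : Γ(Y, Y.basicOpen s))
    (hst : i.app (Y.basicOpen s) t = i.app (Y.basicOpen s) (rs (Y.basicOpen_le s) s)) :
    ∃ M₀, ∀ m, M₀ ≤ m → ∃ F : Γ(Y, W), rs (Y.basicOpen_le s) F = t ^ m ∧ i.app W F = i.app W s ^ m := by
  haveI := hW.isLocalization_basicOpen s
  let ρ : Γ(Y, W) →+* Γ(Y, Y.basicOpen s) := (Y.presheaf.map (homOfLE (Y.basicOpen_le s)).op).hom
  have hρ : ∀ x, rs (Y.basicOpen_le s) x = ρ x := fun _ => rfl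
  obtain ⟨p, a, ha⟩ := IsLocalization.Away.surj s (t - ρ s)
  change (t - ρ s) * ρ s ^ p = ρ a at ha
  let a' := a * s
  have hia : i.app W a' = 0 := by
    rw [← basicOpen_eq_bot_iff, ← Scheme.preimage_basicOpen, eq_bot_iff]
    intro z hz
    have h1 : i z ∈ Y.basicOpen a ⊓ Y.basicOpen s := by
      have : i z ∈ Y.basicOpen (a * s) := hz
      rwa [Scheme.basicOpen_mul] at this
    have h2 : i z ∈ Y.basicOpen (ρ a) := by
      show i z ∈ Y.basicOpen (Y.presheaf.map (homOfLE (Y.basicOpen_le s)).op a)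
      rw [Scheme.basicOpen_res]
      exact ⟨h1.2, h1.1⟩
    rw [← ha, Scheme.basicOpen_mul] at h2
    have h3 : z ∈ Yr.basicOpen (i.app (Y.basicOpen s) (t - ρ s)) := by
      rw [← Scheme.preimage_basicOpen]; exact h2.1
    rw [map_sub, hst, hρ, sub_self, Scheme.basicOpen_zero] at h3
    exact h3
  obtain ⟨R, hR⟩ : IsNilpotent a' := by
    refine isNilpotent_of_basicOpen_eq_bot hW.isCompact (eq_of_preimage_eq i ?_)
    rw [Scheme.preimage_basicOpen, hia, Scheme.basicOpen_zero]
    rfl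
  have hu : IsUnit (ρ s) := IsLocalization.Away.algebraMap_isUnit (S := Γ(Y, Y.basicOpen s)) s
  let ν := t - ρ s
  have hν : ∀ r, ν ^ r * ρ s ^ (r * (p + 1)) = ρ a' ^ r := fun r => by
    rw [mul_comm r, pow_mul, ← mul_pow, pow_succ, ← mul_assoc, ha, ← map_mul]
  refine ⟨R * (p + 2), fun m hm => ⟨∑ r ∈ Finset.range R, m.choose r • (a' ^ r * s ^ (m - r * (p + 2))), ?_, ?_⟩⟩
  · rw [hρ, show t = ν + ρ s by simp [ν], add_pow, map_sum]
    have hsub : Finset.range R ⊆ Finset.range (m + 1) := Finset.range_mono (by nlinarith)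
    rw [← Finset.sum_subset hsub fun r _ hr => ?_]
    · refine Finset.sum_congr rfl fun r hr => ?_
      have hr' : r * (p + 2) ≤ m := (Nat.mul_le_mul_right _ (Finset.mem_range.1 hr).le).trans hm
      rw [map_nsmul, map_mul, map_pow, map_pow, ← hν r, mul_assoc (ν ^ r), ← pow_add, nsmul_eq_mul, mul_comm]
      congr 2
      have : r * (p + 2) = r * (p + 1) + r := by ring
      congr 1
      omega
    · have hz : ν ^ r = 0 := by
        apply (hu.pow (r * (p + 1))).mul_right_cancel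
        rw [hν, zero_mul, ← map_pow, pow_eq_zero_of_le (not_lt.1 fun h => hr (Finset.mem_range.2 h)) hR, map_zero]
      rw [hz, zero_mul, zero_mul]
  · rw [map_sum]
    by_cases hR0 : R = 0
    · subst hR0
      rw [pow_zero] at hR
      haveI : Subsingleton Γ(Y, W) := subsingleton_of_zero_eq_one hR.symm
      rw [← map_pow]
      exact (map_sum (i.app W).hom _ _).symm.trans (congrArg _ (Subsingleton.elim _ _))
    rw [Finset.sum_eq_single 0 (fun r _ hr0 => ?_) (fun h => absurd (Finset.mem_range.2 (Nat.pos_of_ne_zero hR0)) h)]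
    · simp
    · rw [map_nsmul, map_mul, map_pow, hia, zero_pow hr0, zero_mul, smul_zero]

/-- Powers of a function on the reduction lift. -/
theorem exists_pow_lift [IsClosedImmersion i] [IsReduced Yr] [CompactSpace Y] [QuasiSeparatedSpace Y]
    (f : Γ(Yr, ⊤)) (D : Y.Opens) (t : Γ(Y, D)) (hD : i ⁻¹ᵁ D = Yr.basicOpen f)
    (ht : i.app D t = rs le_top f) :
    ∃ (m : ℕ) (F : Γ(Y, ⊤)), 1 ≤ m ∧ i.appTop F = f ^ m ∧ rs le_top F = t ^ m ∧ Y.basicOpen F = D := by
  classical
  choose W hW hxW hle using fun y : Y => exists_isAffineOpen_mem_and_subset (x := y) (U := ⊤) trivial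
  obtain ⟨S, hS⟩ := isCompact_univ.elim_finite_subcover (fun y => (W y : Set Y)) (fun y => (W y).isOpen)
    fun y _ => Set.mem_iUnion.2 ⟨y, hxW y⟩
  choose s hs using fun y : S => i.app_surjective (W y.1) (hW y.1) (rs le_top f)
  have hbs : ∀ y : S, Y.basicOpen (s y) = W y.1 ⊓ D := fun y => eq_of_preimage_eq i (by
    rw [Scheme.preimage_basicOpen, hs, rs, Scheme.basicOpen_res, Scheme.Hom.preimage_inf, hD])
  have hle' : ∀ y : S, Y.basicOpen (s y) ≤ D := fun y => (hbs y).le.trans inf_le_right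
  choose M hM using fun y : S => exists_ext_pow i (hW y.1) (s y) (rs (hle' y) t) (by
    have n1 := congr($(i.naturality (homOfLE (Y.basicOpen_le (s y))).op) (s y))
    have n2 := congr($(i.naturality (homOfLE (hle' y)).op) t)
    simp only [CommRingCat.comp_apply] at n1 n2
    rw [rs, rs, n1, n2, hs, ht]
    simp only [rs, ← ConcreteCategory.comp_apply, ← Functor.map_comp]
    rfl)
  let m := Finset.univ.sup M + 1
  choose F hF hF' using fun y : S => hM y m ((Finset.le_sup (Finset.mem_univ y)).trans (Nat.le_succ _))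
  have hm : 0 < m := Nat.succ_pos _
  have hbF : ∀ y : S, Y.basicOpen (F y) = W y.1 ⊓ D := fun y => eq_of_preimage_eq i (by
    rw [Scheme.preimage_basicOpen, hF', hs, Yr.basicOpen_pow _ hm, rs, Scheme.basicOpen_res,
      Scheme.Hom.preimage_inf, hD])
  have hK : ∀ p : S × S, ∃ K₀, ∀ K, K₀ ≤ K →
      rs (inf_le_left : W p.1.1 ⊓ W p.2.1 ≤ W p.1.1) (F p.1) ^ K =
        rs (inf_le_right : W p.1.1 ⊓ W p.2.1 ≤ W p.2.1) (F p.2) ^ K := fun p => by
    refine pow_eq_pow (W := W p.1.1 ⊓ W p.2.1) ((hW p.1.1).isCompact.inter_of_isOpen (hW p.2.1).isCompact (W p.1.1).isOpen (W p.2.1).isOpen)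
      _ _ ?_ ?_
    · simp only [rs, Scheme.basicOpen_res, hbF]
      ext z; exact ⟨fun h => ⟨h.1, h.1.2, h.2.2⟩, fun h => ⟨h.1, h.1.1, h.2.2⟩⟩
    · have key : ∀ (y : S) (O : Y.Opens) (h : O ≤ W y.1) (h' : O ≤ Y.basicOpen (s y)),
          rs h (F y) = rs (h'.trans (hle' y)) t ^ m := fun y O h h' => by
        have := congrArg (rs h') (hF y)
        rw [rs_rs] at this
        simp only [rs, map_pow] at this ⊢
        simp only [← ConcreteCategory.comp_apply, ← Functor.map_comp] at this ⊢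
        exact this
      have hO : Y.basicOpen (rs (inf_le_right : W p.1.1 ⊓ W p.2.1 ≤ W p.2.1) (F p.2)) ≤
          (W p.1.1 ⊓ D) ⊓ (W p.2.1 ⊓ D) := by
        simp only [rs, Scheme.basicOpen_res, hbF]
        exact fun z hz => ⟨⟨hz.1.1, hz.2.2⟩, hz.2⟩
      rw [rs_rs, rs_rs, key p.1 _ _ (hO.trans (inf_le_left.trans (hbs p.1).ge)),
        key p.2 _ _ (hO.trans (inf_le_right.trans (hbs p.2).ge))]
  choose K₀ hK₀ using hK
  let K := Finset.univ.sup K₀ + 1
  have hcompat : TopCat.Presheaf.IsCompatible Y.presheaf (fun y : S => W y.1) fun y => F y ^ K := fun y y' => by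
    show rs inf_le_left (F y ^ K) = rs inf_le_right (F y' ^ K)
    rw [rs, rs, map_pow, map_pow]
    exact hK₀ (y, y') K ((Finset.le_sup (Finset.mem_univ _)).trans (Nat.le_succ _))
  have hcov : (⊤ : Y.Opens) ≤ ⨆ y : S, W y.1 := fun z _ => by
    obtain ⟨y, hy, hzy⟩ := Set.mem_iUnion₂.1 (hS (Set.mem_univ z))
    exact Opens.mem_iSup.2 ⟨⟨y, hy⟩, hzy⟩
  obtain ⟨G₀, hG, -⟩ := Y.sheaf.existsUnique_gluing' (fun y : S => W y.1) ⊤ (fun y => homOfLE le_top) hcov
    (fun y => F y ^ K) hcompat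
  let G : Γ(Y, ⊤) := G₀
  replace hG : ∀ y : S, rs le_top G = F y ^ K := hG
  refine ⟨m * K, G, Nat.mul_pos hm (Nat.succ_pos _), ?_, ?_, ?_⟩
  · refine Yr.sheaf.eq_of_locally_eq' (fun y : S => i ⁻¹ᵁ W y.1) ⊤ (fun y => homOfLE le_top)
      (fun z _ => by
        obtain ⟨y, hy⟩ := Opens.mem_iSup.1 (hcov (show i z ∈ (⊤ : Y.Opens) from trivial))
        exact Opens.mem_iSup.2 ⟨y, hy⟩) _ _ fun y => ?_
    show rs (le_top : i ⁻¹ᵁ W y.1 ≤ ⊤) (i.app ⊤ G) = rs le_top (f ^ (m * K))
    have n1 := congr($(i.naturality (homOfLE (le_top : W y.1 ≤ ⊤)).op) G)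
    simp only [CommRingCat.comp_apply] at n1
    refine n1.symm.trans ?_
    rw [show Y.presheaf.map (homOfLE (le_top : W y.1 ≤ ⊤)).op G = F y ^ K from hG y, map_pow, hF', hs, ← pow_mul,
      rs, rs, map_pow]
  · refine Y.sheaf.eq_of_locally_eq' (fun y : S => W y.1 ⊓ D) D (fun y => homOfLE inf_le_right)
      (fun z hz => by
        obtain ⟨y, hy⟩ := Opens.mem_iSup.1 (hcov (show z ∈ (⊤ : Y.Opens) from trivial))
        exact Opens.mem_iSup.2 ⟨y, hy, hz⟩) _ _ fun y => ?_
    show rs inf_le_right (rs le_top G) = rs inf_le_right (t ^ (m * K))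
    have h' : W y.1 ⊓ D ≤ Y.basicOpen (s y) := (hbs y).ge
    have e1 := congrArg (rs h') (congrArg (· ^ K) (hF y))
    have e2 := congrArg (rs (inf_le_left : W y.1 ⊓ D ≤ W y.1)) (hG y)
    simp only [rs, map_pow, ← pow_mul] at e1 e2 ⊢
    simp only [← ConcreteCategory.comp_apply, ← Functor.map_comp] at e1 e2 ⊢
    exact e2.trans e1
  · refine Opens.ext (Set.ext fun z => ?_)
    obtain ⟨y, hy⟩ := Opens.mem_iSup.1 (hcov (show z ∈ (⊤ : Y.Opens) from trivial))
    have hb : Y.basicOpen (rs (le_top : W y.1 ≤ ⊤) G) = W y.1 ⊓ D := by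
      rw [hG y, Y.basicOpen_pow _ (Nat.succ_pos _), hbF]
    rw [rs, Scheme.basicOpen_res] at hb
    have := SetLike.ext_iff.1 hb z
    simp only [Opens.mem_inf, hy, true_and] at this
    exact this

end GLinRedLib
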