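import Groth.Agent.GLinRedLib.Base
import Groth.Agent.GLinRedLib.PowLift
import Groth.Agent.GLinRedLib.InvLift
import Groth.Agent.GLinRedLib.Comp
import Groth.Agent.GLinShLib.Data
import Groth.Agent.ChevLib.Main

/-!
# Invariant sections lift from the reduction up to powers
-/

set_option autoImplicit false
set_option backward.isDefEq.respectTransparency false
set_option synthInstance.maxHeartbeats 400000
set_option maxHeartbeats 1000000
set_option linter.style.haveILetI false
set_option linter.unusedSectionVars false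

universe u

open CategoryTheory CategoryTheory.Limits MonoidalCategory CartesianMonoidalCategory AlgebraicGeometry
  TopologicalSpace Opposite
open scoped MonObj
open GLinExtLib (rs rs_rs rs_self rs_appLE appLE_rs appLE_appLE' appLE_hom)
open GLinShLib (Chart exists_chart openObj openHom)
open CoactBr

noncomputable section

namespace GLinRedLib

theorem rs_appTop {P Q : Scheme.{u}} (f : P ⟶ Q) (W : P.Opens) (h : W ≤ ⊤) (s : Γ(Q, ⊤)) :
    rs h (f.appTop s) = f.appLE ⊤ W le_top s := by
  rw [Scheme.Hom.appTop, Scheme.Hom.app_eq_appLE]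
  exact rs_appLE f h le_rfl s

variable {k : Type u} [Field k] {A : Type u} [CommRing A] [HopfAlgebra k A]
  {G X Xr : Over (Spec (CommRingCat.of k))} [GrpObj G] {a : AlgGrp.Action G X} {ar : AlgGrp.Action G Xr}
  {B : GLinSh.LinBun G a} {Br : GLinSh.LinBun G ar} {j : Xr ⟶ X} {q : Br.V ⟶ B.V}

/-- The open of the base with given preimage. -/
theorem RedData.exists_open (d : RedData B Br j q) {n : ℕ} {fr : Γ(Br.V.left, ⊤)} (hf : Br.IsInvSection n fr)
    {Ur : Xr.left.Opens} (hUr : (Ur : Set Xr.left) = GLinSh.nonvanishing Br.π fr) (haff : IsAffineOpen Ur) :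
    ∃ U : X.left.Opens, j.left ⁻¹ᵁ U = Ur ∧ IsAffineOpen U ∧ GLinShLib.IsInvOpen a U := by
  haveI := d.clim
  haveI : Surjective j.left := ⟨d.surj⟩
  let U : X.left.Opens := ⟨(j.left '' (Ur : Set Xr.left)ᶜ)ᶜ,
    (j.left.isClosedEmbedding.isClosedMap _ Ur.isOpen.isClosed_compl).isOpen_compl⟩
  have hU : j.left ⁻¹ᵁ U = Ur := Opens.ext (Set.ext fun x => by
    show j.left x ∈ (j.left '' (Ur : Set Xr.left)ᶜ)ᶜ ↔ x ∈ (Ur : Set Xr.left)
    rw [Set.mem_compl_iff, j.left.isClosedEmbedding.injective.mem_set_image, Set.notMem_compl_iff])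
  have hinv : GLinShLib.IsInvOpen ar Ur := by
    rw [show Ur = GLinShLib.nv hf.1 from Opens.ext hUr]
    exact GLinShLib.isInvOpen_nv hf
  refine ⟨U, hU, ?_, ?_⟩
  · haveI : IsAffine (j.left ⁻¹ᵁ U).toScheme := by rw [hU]; exact haff
    haveI : IsClosedImmersion (j.left ∣_ U) := IsZariskiLocalAtTarget.restrict d.clim U
    haveI : Surjective (j.left ∣_ U) := IsZariskiLocalAtTarget.restrict (P := @Surjective) inferInstance U
    exact ChevLib.isAffine_of_surjective_universallyClosed (j.left ∣_ U)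
  · refine GLinShLib.isInvOpen_iff fun p hp => ?_
    haveI : Surjective (G ◁ j).left := MorphismProperty.of_isPullback (P := @Surjective)
      (Groth.Agent.FinHom.isPullback_whiskerLeft G j).flip inferInstance
    obtain ⟨p', rfl⟩ := (G ◁ j).left.surjective p
    have h1 : (snd G X).left ((G ◁ j).left p') = j.left ((snd G Xr).left p') := by
      rw [← Scheme.Hom.comp_apply, ← Scheme.Hom.comp_apply, ← Over.comp_left, ← Over.comp_left, whiskerLeft_snd]
    have h2 : a.act.left ((G ◁ j).left p') = j.left (ar.act.left p') := by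
      rw [← Scheme.Hom.comp_apply, ← Scheme.Hom.comp_apply, ← Over.comp_left, ← Over.comp_left, d.har]
    rw [h1] at hp
    rw [h2]
    have hm : ∀ x, j.left x ∈ U ↔ x ∈ Ur := fun x => SetLike.ext_iff.1 hU x
    rw [hm] at hp ⊢
    exact (SetLike.ext_iff.1 hinv p').2 hp

/-- An invariant weight-`n` lift over the affine invariant open. -/
theorem RedData.exists_local_lift (d : RedData B Br j q) (w : sp k A ⟶ G) [IsMonHom w] [IsIso w]
    {β : A →ₗ[k] k} (hβ : ComodLib.IsInvariant β) (h1 : β 1 = 1) {n : ℕ} {fr : Γ(Br.V.left, ⊤)}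
    (hf : Br.IsInvSection n fr) {U : X.left.Opens} (hU : IsAffineOpen U) (hinv : GLinShLib.IsInvOpen a U) :
    ∃ t : Γ(B.V.left, B.π.left ⁻¹ᵁ U),
      B.lift.act.left.appLE _ (dom B U) (dom_le hinv) t = (snd G B.V).left.appLE _ (dom B U) le_rfl t ∧
      q.left.appLE _ _ (d.hle U) t = rs le_top fr ∧
      ∀ (K : Chart B) (hK : K.W ≤ U), ∃ e : Γ(X.left, K.W),
        GLinSh.res B.π hK t = B.π.left.app K.W e * K.coord ^ n := by
  haveI := d.clim
  haveI := d.q_clim
  haveI := B.atlas.affine
  let D := B.π.left ⁻¹ᵁ U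
  let Dr := q.left ⁻¹ᵁ D
  have hDa : IsAffineOpen D := hU.preimage B.π.left
  have hDra : IsAffineOpen Dr := hDa.preimage q.left
  have hD : GLinShLib.IsInvOpen B.lift D := by
    show B.lift.act.left ⁻¹ᵁ D = (snd G B.V).left ⁻¹ᵁ D
    rw [← Scheme.Hom.comp_preimage, ← Over.comp_left, B.lift_π, Over.comp_left, Scheme.Hom.comp_preimage,
      show a.act.left ⁻¹ᵁ U = (snd G X).left ⁻¹ᵁ U from hinv, ← Scheme.Hom.comp_preimage, ← Over.comp_left,
      whiskerLeft_snd, Over.comp_left, Scheme.Hom.comp_preimage]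
  have hDr : GLinShLib.IsInvOpen Br.lift Dr := by
    show Br.lift.act.left ⁻¹ᵁ (q.left ⁻¹ᵁ D) = (snd G Br.V).left ⁻¹ᵁ (q.left ⁻¹ᵁ D)
    rw [← Scheme.Hom.comp_preimage Br.lift.act.left q.left D, ← Scheme.Hom.comp_preimage (snd G Br.V).left q.left D,
      ← Over.comp_left, ← Over.comp_left, d.hlift,
      ← whiskerLeft_snd G q, Over.comp_left, Over.comp_left, Scheme.Hom.comp_preimage, Scheme.Hom.comp_preimage,
      show B.lift.act.left ⁻¹ᵁ D = (snd G B.V).left ⁻¹ᵁ D from hD]
  obtain ⟨aD, haD⟩ := GLinShLib.exists_action hD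
  obtain ⟨aDr, haDr⟩ := GLinShLib.exists_action hDr
  let pr : openObj Dr ⟶ openObj D := Over.homMk (q.left ∣_ D) (by
    show (q.left ∣_ D) ≫ D.ι ≫ B.V.hom = Dr.ι ≫ Br.V.hom
    rw [morphismRestrict_ι_assoc, Over.w q])
  have hpr : pr ≫ openHom D = openHom Dr ≫ q := Over.OverMorphism.ext (morphismRestrict_ι _ _)
  have he : aDr.act ≫ pr = (G ◁ pr) ≫ aD.act := by
    rw [← cancel_mono (openHom D), Category.assoc, Category.assoc, hpr, haD,
      ← MonoidalCategory.whiskerLeft_comp_assoc, hpr, reassoc_of% haDr, MonoidalCategory.whiskerLeft_comp_assoc,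
      d.hlift]
  haveI : IsAffine (openObj D).left := hDa
  haveI : IsAffine (openObj Dr).left := hDra
  haveI : IsClosedImmersion pr.left := IsZariskiLocalAtTarget.restrict d.q_clim D
  have hs : Function.Surjective pr.left.appTop := pr.left.app_surjective ⊤ (isAffineOpen_top _)
  let s0 : Γ(Br.V.left, Dr) := rs le_top fr
  have hs0 : GLinShLib.IsInvFun hDr s0 := by
    have h := congrArg (rs (le_top : (snd G Br.V).left ⁻¹ᵁ Dr ≤ ⊤)) hf.2
    rw [rs_appTop, rs_appTop] at h
    show Br.lift.act.left.appLE _ _ _ (rs le_top fr) = (snd G Br.V).left.appLE _ _ _ (rs le_top fr)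
    rw [appLE_rs, appLE_rs]
    exact h
  obtain ⟨g, hg, hgr⟩ := exists_invariant_lift w hβ h1 aD aDr pr he hs
    ((GLinShLib.appTop_invariant_iff hDr aDr haDr s0).2 hs0)
  have bι := GITQuotLib.appLE_bij (openHom D).left (GLinShLib.top_eq_preimage_openHom D) (Scheme.Opens.opensRange_ι _).ge
  obtain ⟨t₀, rfl⟩ := bι.2 g
  have ht₀ := (GLinShLib.appTop_invariant_iff hD aD haD t₀).1 hg
  have hq₀ : q.left.appLE D Dr le_rfl t₀ = s0 := by
    refine (GITQuotLib.appLE_bij (openHom Dr).left (GLinShLib.top_eq_preimage_openHom Dr)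
      (Scheme.Opens.opensRange_ι _).ge).1 ?_
    refine Eq.trans ?_ hgr
    rw [Scheme.Hom.appTop, Scheme.Hom.app_eq_appLE]
    exact (appLE_appLE' _ _ _ _ _).trans ((appLE_hom (congrArg CommaMorphism.left hpr).symm _
      (by rw [congrArg CommaMorphism.left hpr]; exact (GLinShLib.top_eq_preimage_openHom Dr).le) _).trans (appLE_appLE' _ _ _ _ _).symm)
  obtain ⟨t, ht⟩ := exists_comp (B := B) n t₀
  refine ⟨t, comp_invariant hinv ht ht₀, ?_, fun K hK => ?_⟩
  · refine TopCat.Presheaf.section_ext Br.V.left.sheaf _ _ _ fun v hv => ?_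
    obtain ⟨K, hK, hKU⟩ := exists_chart (B := B) (j.left (Br.π.left v)) (O := U) hv
    let O := Br.π.left ⁻¹ᵁ (j.left ⁻¹ᵁ K.W)
    have hle : O ≤ Br.π.left ⁻¹ᵁ (j.left ⁻¹ᵁ U) := Br.π.left.preimage_mono (j.left.preimage_mono hKU)
    refine TopCat.Presheaf.germ_ext _ O hK (homOfLE hle) (homOfLE hle) ?_
    show rs hle _ = rs hle _
    rw [rs_rs, rs_appLE]
    obtain ⟨P, hP⟩ := K.bijective.2 (GLinSh.res B.π hKU t₀)
    obtain ⟨c, hc⟩ := (d.chartR K).exists_coeff hf.1
    have h2 := congrArg (q.left.appLE _ O (d.hle K.W)) hP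
    rw [d.eval_eq] at h2
    have h3 : q.left.appLE _ O (d.hle K.W) (GLinSh.res B.π hKU t₀) = rs le_top fr := by
      have := congrArg (rs (show O ≤ Dr from hle.trans (d.pre_eq U).ge)) hq₀
      rw [rs_appLE, rs_rs] at this
      rw [GLinSh.res, show B.V.left.presheaf.map _ t₀ = rs (B.π.left.preimage_mono hKU) t₀ from rfl, appLE_rs]
      exact this
    replace h2 := (h2.trans h3).trans hc
    have hP' : P.map (j.left.app K.W).hom = Polynomial.C c * Polynomial.X ^ n := by
      refine (d.chartR K).bijective.1 (h2.trans ?_)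
      simp
    have hn : (j.left.app K.W).hom (P.coeff n) = c := by
      have := congrArg (fun p => p.coeff n) hP'
      simp only [Polynomial.coeff_map] at this
      exact this.trans ((Polynomial.coeff_C_mul_X_pow c _ _).trans (if_pos rfl))
    rw [← appLE_rs q.left (B.π.left.preimage_mono hKU) (d.hle K.W), show rs (B.π.left.preimage_mono hKU) t = GLinSh.res B.π hKU t from rfl,
      ht K hKU P hP, map_mul, map_pow, d.app_eq, d.coord_eq]
    show Br.π.left.app _ ((j.left.app K.W).hom (P.coeff n)) * _ = GLinSh.resTop Br.π (d.chartR K).W fr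
    rw [hn, hc]
    rfl
  · obtain ⟨P, hP⟩ := K.bijective.2 (GLinSh.res B.π hK t₀)
    exact ⟨P.coeff n, ht K hK P hP⟩

theorem RedData.exists_lift_section (d : RedData B Br j q) (w : sp k A ⟶ G) [IsMonHom w] [IsIso w]
    {β : A →ₗ[k] k} (hβ : ComodLib.IsInvariant β) (h1 : β 1 = 1) [CompactSpace X.left] [QuasiSeparatedSpace X.left]
    [QuasiCompact G.hom] {n : ℕ} (hn : 1 ≤ n) {fr : Γ(Br.V.left, ⊤)}
    (hf : Br.IsInvSection n fr) {Ur : Xr.left.Opens} (hUr : (Ur : Set Xr.left) = GLinSh.nonvanishing Br.π fr)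
    (haff : IsAffineOpen Ur) :
    ∃ (N : ℕ) (F : Γ(B.V.left, ⊤)) (U : X.left.Opens), 1 ≤ N ∧ B.IsInvSection N F ∧
      (U : Set X.left) = GLinSh.nonvanishing B.π F ∧ IsAffineOpen U ∧ j.left ⁻¹ᵁ U = Ur := by
  haveI := d.clim
  haveI := d.q_clim
  haveI := d.q_surj
  haveI := d.reduced
  haveI := B.atlas.affine
  haveI : CompactSpace B.V.left := QuasiCompact.compactSpace_of_compactSpace B.π.left
  haveI : QuasiSeparatedSpace B.V.left := quasiSeparatedSpace_of_quasiSeparated B.π.left
  obtain ⟨U, hU, hUa, hUi⟩ := d.exists_open hf hUr haff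
  obtain ⟨t, htinv, htq, htw⟩ := d.exists_local_lift w hβ h1 hf hUa hUi
  let D := B.π.left ⁻¹ᵁ U
  let D' := B.V.left.basicOpen t
  have hD'D : D' ≤ D := B.V.left.basicOpen_le t
  have hnvr : GLinShLib.nv hf.1 = Ur := (Opens.ext hUr).symm
  have hfr : Br.V.left.basicOpen fr ≤ Br.π.left ⁻¹ᵁ Ur := hnvr ▸ GLinShLib.basicOpen_le hf.1
  have htq' : q.left.app D t = rs le_top fr := by
    have := congrArg (rs (d.pre_eq U).le) htq
    rw [rs_appLE, rs_rs] at this
    rw [Scheme.Hom.app_eq_appLE]
    exact this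
  have hD' : q.left ⁻¹ᵁ D' = Br.V.left.basicOpen fr := by
    rw [Scheme.preimage_basicOpen, htq', rs, Scheme.basicOpen_res, d.pre_eq, hU]
    exact inf_eq_right.2 hfr
  have htD' : q.left.app D' (rs hD'D t) = rs le_top fr := by
    have n1 := congr($(q.left.naturality (homOfLE hD'D).op) t)
    simp only [CommRingCat.comp_apply] at n1
    rw [rs, n1, htq']
    exact rs_rs _ (q.left.preimage_mono hD'D) fr
  obtain ⟨m, F, hm, hqF, hFt, hFD⟩ := exists_pow_lift q.left fr D' (rs hD'D t) hD' htD'
  -- weight on each chart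
  have hwt : ∀ K : Chart B, ∃ K₀, ∀ M, K₀ ≤ M → ∃ c : Γ(X.left, K.W),
      GLinSh.resTop B.π K.W (F ^ M) = B.π.left.app K.W c * K.coord ^ (n * m * M) := by
    intro K
    obtain ⟨P, hP⟩ := K.bijective.2 (GLinSh.resTop B.π K.W F)
    let b : Γ(B.V.left, B.π.left ⁻¹ᵁ K.W) := B.π.left.app K.W (P.coeff (n * m)) * K.coord ^ (n * m)
    have hqb : q.left.appLE _ _ (d.hle K.W) (GLinSh.resTop B.π K.W F) = q.left.appLE _ _ (d.hle K.W) b := by
      obtain ⟨c, hc⟩ := (d.chartR K).exists_coeff (GLinShLib.isInvSection_pow hf m).1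
      have h2 := congrArg (q.left.appLE _ _ (d.hle K.W)) hP
      rw [d.eval_eq] at h2
      have h3 : q.left.appLE _ _ (d.hle K.W) (GLinSh.resTop B.π K.W F) = GLinSh.resTop Br.π (d.chartR K).W (fr ^ m) := by
        rw [← hqF, GLinSh.resTop, show B.V.left.presheaf.map (homOfLE (le_top : B.π.left ⁻¹ᵁ K.W ≤ ⊤)).op F = rs le_top F from rfl,
          appLE_rs]
        show _ = rs le_top (q.left.appTop F)
        rw [rs_appTop]
      replace h2 := (h2.trans h3).trans hc
      have hP' : P.map (j.left.app K.W).hom = Polynomial.C c * Polynomial.X ^ (n * m) := by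
        refine (d.chartR K).bijective.1 (h2.trans ?_)
        simp
      have hn' : (j.left.app K.W).hom (P.coeff (n * m)) = c := by
        have := congrArg (fun p => p.coeff (n * m)) hP'
        simp only [Polynomial.coeff_map] at this
        exact this.trans ((Polynomial.coeff_C_mul_X_pow c _ _).trans (if_pos rfl))
      rw [h3, hc, map_mul, map_pow, d.app_eq, d.coord_eq]
      show _ = Br.π.left.app _ ((j.left.app K.W).hom (P.coeff (n * m))) * _
      rw [hn']
      rfl
    have hbo : B.V.left.basicOpen (GLinSh.resTop B.π K.W F) = B.V.left.basicOpen b := by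
      refine eq_of_preimage_eq q.left ?_
      have key : ∀ z : Γ(B.V.left, B.π.left ⁻¹ᵁ K.W),
          q.left ⁻¹ᵁ B.V.left.basicOpen z = Br.V.left.basicOpen (q.left.appLE _ _ (d.hle K.W) z) := fun z => by
        rw [Scheme.basicOpen_appLE]
        refine (inf_eq_right.2 ?_).symm
        rw [← d.pre_eq]
        exact q.left.preimage_mono (B.V.left.basicOpen_le z)
      rw [key, key, hqb]
    obtain ⟨K₀, hK₀⟩ := pow_eq_pow K.affine_preimage.isCompact (GLinSh.resTop B.π K.W F) b hbo (by
      refine TopCat.Presheaf.section_ext B.V.left.sheaf _ _ _ fun v hv => ?_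
      have hvK : v ∈ B.π.left ⁻¹ᵁ K.W := B.V.left.basicOpen_le b hv
      have hvU : B.π.left v ∈ U := by
        have : v ∈ D' := by
          have h' : v ∈ B.V.left.basicOpen (GLinSh.resTop B.π K.W F) := hbo.ge hv
          rw [GLinSh.resTop, Scheme.basicOpen_res, hFD] at h'
          exact h'.2
        exact hD'D this
      obtain ⟨W, hW, hvW, hWle⟩ := exists_isAffineOpen_mem_and_subset (x := B.π.left v) (U := K.W ⊓ U) ⟨hvK, hvU⟩
      have hW1 : W ≤ K.W := fun x hx => (hWle hx).1
      have hW2 : W ≤ U := fun x hx => (hWle hx).2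
      let K2 : Chart B := ⟨W, hW, K.U, hW1.trans K.le, K.y, K.mem⟩
      obtain ⟨e, he⟩ := htw K2 hW2
      let E := Polynomial.eval₂RingHom (B.π.left.app W).hom K2.coord
      let r : Γ(X.left, K.W) →+* Γ(X.left, W) := (X.left.presheaf.map (homOfLE hW1).op).hom
      have hcoord : GLinSh.res B.π hW1 K.coord = K2.coord := GLinShLib.res_res hW1 K.le K.y
      have e1 : GLinSh.resTop B.π W F = E (P.map r) := by
        rw [← GLinShLib.res_resTop hW1, ← hP]
        refine (Polynomial.hom_eval₂ _ _ (B.V.left.presheaf.map (homOfLE (B.π.left.preimage_mono hW1)).op).hom _).trans ?_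
        show _ = Polynomial.eval₂ _ _ _
        rw [Polynomial.eval₂_map, ← hcoord]
        congr 1
        exact RingHom.ext fun c => GLinShLib.res_app hW1 c
      let T : Γ(B.V.left, B.π.left ⁻¹ᵁ W) := E (Polynomial.C e * Polynomial.X ^ n)
      have hT : T = GLinSh.res B.π hW2 t := by
        show Polynomial.eval₂ _ _ _ = _
        rw [he, Polynomial.eval₂_mul, Polynomial.eval₂_C, Polynomial.eval₂_X_pow]
      have hTz : (GLinSh.resTop B.π W F - T ^ m) |_ B.V.left.basicOpen T = 0 := by
        show B.V.left.presheaf.map (homOfLE (B.V.left.basicOpen_le T)).op _ = 0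
        rw [map_sub, sub_eq_zero, map_pow, hT]
        have hle : B.V.left.basicOpen (GLinSh.res B.π hW2 t) ≤ D' := by
          rw [GLinSh.res, Scheme.basicOpen_res]; exact inf_le_right
        have := congrArg (rs hle) hFt
        simp only [rs, GLinSh.res, GLinSh.resTop, map_pow] at this ⊢
        simp only [← ConcreteCategory.comp_apply, ← Functor.map_comp] at this ⊢
        exact this
      obtain ⟨N, hN⟩ := exists_pow_mul_eq_zero_of_res_basicOpen_eq_zero_of_isCompact B.V.left
        K2.affine_preimage.isCompact _ T hTz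
      have hpoly : (Polynomial.C e * Polynomial.X ^ n) ^ N * (P.map r - (Polynomial.C e * Polynomial.X ^ n) ^ m) = 0 := by
        apply K2.bijective.1
        show E _ = E 0
        rw [map_zero, map_mul, map_sub, map_pow, map_pow, ← e1]
        exact hN
      have heu : IsUnit e := by
        refine (X.left.toRingedSpace.isUnit_of_isUnit_germ W e fun x hx => ?_)
        refine (X.left.mem_basicOpen e x hx).1 ?_
        have hb : X.left.basicOpen e = W := by
          refine d.eq_of_preimage_j (le_antisymm (j.left.preimage_mono (X.left.basicOpen_le e)) fun y hy => ?_)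
          have hy' : y ∈ GLinShLib.nv hf.1 := by rw [hnvr, ← hU]; exact hW2 hy
          have hc2 : GLinSh.resTop Br.π (d.chartR K2).W fr =
              Br.π.left.app (d.chartR K2).W (j.left.app W e) * (d.chartR K2).coord ^ n := by
            have := congrArg (q.left.appLE _ _ (d.hle W)) he
            rw [map_mul, map_pow, d.app_eq W, d.coord_eq K2] at this
            refine Eq.trans ?_ this
            rw [GLinSh.res, show B.V.left.presheaf.map _ t = rs (B.π.left.preimage_mono hW2) t from rfl, appLE_rs,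
              ← rs_appLE q.left (Br.π.left.preimage_mono (j.left.preimage_mono hW2)) (d.hle U), htq, rs_rs]
            rfl
          have := (GLinShLib.mem_nonvanishing_iff (d.chartR K2) hc2 hy).1 hy'
          show y ∈ j.left ⁻¹ᵁ X.left.basicOpen e
          rw [Scheme.preimage_basicOpen]
          exact this
        rw [hb]; exact hx
      have hPW : P.map r = Polynomial.C (e ^ m) * Polynomial.X ^ (n * m) := by
        have h0 : Polynomial.X ^ (n * N) * (P.map r - (Polynomial.C e * Polynomial.X ^ n) ^ m) = 0 := by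
          refine ((heu.map Polynomial.C).pow N).mul_left_cancel ?_
          rw [mul_zero, ← mul_assoc, pow_mul, ← mul_pow]
          exact hpoly
        have := Polynomial.monic_X_pow (R := Γ(X.left, W)) (n * N)
        have h00 := this.isRegular.left (h0.trans (mul_zero _).symm)
        rw [sub_eq_zero.1 h00, mul_pow, ← map_pow, ← pow_mul]
      refine TopCat.Presheaf.germ_ext _ (B.V.left.basicOpen b ⊓ B.π.left ⁻¹ᵁ W) ⟨hv, hvW⟩
        (homOfLE inf_le_left) (homOfLE inf_le_left) ?_
      show rs inf_le_left (rs _ (GLinSh.resTop B.π K.W F)) = rs inf_le_left (rs _ b)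
      rw [rs_rs, rs_rs]
      have eb : GLinSh.res B.π hW1 b = GLinSh.resTop B.π W F := by
        rw [e1, hPW, GLinShLib.res_mul, GLinShLib.res_pow, GLinShLib.res_app, hcoord]
        have hn2 : r (P.coeff (n * m)) = e ^ m := by
          have := congrArg (fun p => p.coeff (n * m)) hPW
          simp only [Polynomial.coeff_map] at this
          exact this.trans ((Polynomial.coeff_C_mul_X_pow _ _ _).trans (if_pos rfl))
        show B.π.left.app W (r (P.coeff (n * m))) * _ = Polynomial.eval₂ _ _ _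
        rw [hn2, Polynomial.eval₂_mul, Polynomial.eval₂_C, Polynomial.eval₂_X_pow]
      have := congrArg (rs (inf_le_right : B.V.left.basicOpen b ⊓ B.π.left ⁻¹ᵁ W ≤ B.π.left ⁻¹ᵁ W)) eb
      simp only [rs, GLinSh.res, GLinSh.resTop] at this ⊢
      simp only [← ConcreteCategory.comp_apply, ← Functor.map_comp] at this ⊢
      exact this.symm)
    refine ⟨K₀, fun M hM => ⟨P.coeff (n * m) ^ M, ?_⟩⟩
    have := hK₀ M hM
    simp only [GLinSh.resTop, map_pow] at this ⊢
    rw [this, mul_pow, ← pow_mul]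
  choose Kc hKc _ using fun x : X.left => exists_chart (B := B) x (O := ⊤) trivial
  obtain ⟨S, hS⟩ := CompactSpace.elim_nhds_subcover (fun x => ((Kc x).W : Set X.left))
    (fun x => (Kc x).W.isOpen.mem_nhds (hKc x))
  choose K₀ hK₀ using fun x => hwt (Kc x)
  -- invariance
  haveI : QuasiCompact (snd G B.V).left := by
    rw [Over.snd_left]; exact MorphismProperty.pullback_snd _ _ inferInstance
  haveI : CompactSpace (G ⊗ B.V).left := QuasiCompact.compactSpace_of_compactSpace (snd G B.V).left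
  let F₁ := B.lift.act.left.appTop F
  let F₂ := (snd G B.V).left.appTop F
  have hdom : dom B U = B.lift.act.left ⁻¹ᵁ D := le_antisymm (dom_le hUi) (by
    show B.lift.act.left ⁻¹ᵁ (B.π.left ⁻¹ᵁ U) ≤ (snd G B.V).left ⁻¹ᵁ (B.π.left ⁻¹ᵁ U)
    rw [← Scheme.Hom.comp_preimage, ← Over.comp_left, B.lift_π, Over.comp_left, Scheme.Hom.comp_preimage,
      show a.act.left ⁻¹ᵁ U = (snd G X).left ⁻¹ᵁ U from hUi, ← Scheme.Hom.comp_preimage, ← Over.comp_left,
      whiskerLeft_snd, Over.comp_left, Scheme.Hom.comp_preimage])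
  have hbo : (G ⊗ B.V).left.basicOpen F₁ = (G ⊗ B.V).left.basicOpen F₂ := by
    show (G ⊗ B.V).left.basicOpen (B.lift.act.left.appTop F) = (G ⊗ B.V).left.basicOpen ((snd G B.V).left.appTop F)
    erw [← Scheme.preimage_basicOpen, ← Scheme.preimage_basicOpen]
    rw [hFD]
    have e := congrArg (G ⊗ B.V).left.basicOpen htinv
    rw [Scheme.basicOpen_appLE, Scheme.basicOpen_appLE] at e
    rw [inf_eq_right.2, inf_eq_right.2] at e
    · exact e
    · exact (snd G B.V).left.preimage_mono hD'D
    · rw [hdom]; exact B.lift.act.left.preimage_mono hD'D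
  obtain ⟨K₁, hK₁⟩ := pow_eq_pow (W := (⊤ : (G ⊗ B.V).left.Opens)) isCompact_univ F₁ F₂ hbo (by
    have hle : (G ⊗ B.V).left.basicOpen F₂ ≤ (snd G B.V).left ⁻¹ᵁ D' := by
      show (G ⊗ B.V).left.basicOpen ((snd G B.V).left.appTop F) ≤ _
      erw [← Scheme.preimage_basicOpen]
      rw [hFD]
    have hle1 : (G ⊗ B.V).left.basicOpen F₂ ≤ B.lift.act.left ⁻¹ᵁ D' := by
      rw [← hbo]
      show (G ⊗ B.V).left.basicOpen (B.lift.act.left.appTop F) ≤ _
      erw [← Scheme.preimage_basicOpen]
      rw [hFD]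
    show rs _ (B.lift.act.left.appTop F) = rs _ ((snd G B.V).left.appTop F)
    rw [rs_appTop, rs_appTop]
    rw [← appLE_rs B.lift.act.left le_top hle1, ← appLE_rs (snd G B.V).left le_top hle, hFt, map_pow, map_pow,
      appLE_rs, appLE_rs]
    congr 1
    have := congrArg (rs (hle.trans ((snd G B.V).left.preimage_mono hD'D))) htinv
    rw [rs_appLE, rs_appLE] at this
    exact this)
  let M := max (S.sup K₀) K₁ + 1
  have hM : 0 < M := Nat.succ_pos _
  have hw : GLinSh.HasWeight B.atlas.chart (n * m * M) (F ^ M) := GLinShLib.hasWeight_of_cover fun x => by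
    obtain ⟨z, hz, hxz⟩ := Set.mem_iUnion₂.1 (hS.ge (Set.mem_univ x))
    exact ⟨Kc z, hxz, hK₀ z M (((Finset.le_sup hz).trans (le_max_left _ _)).trans (Nat.le_succ _))⟩
  have hi : GLinSh.IsInvFn B.lift (F ^ M) := by
    rw [GLinSh.IsInvFn, map_pow, map_pow]
    exact hK₁ M ((le_max_right _ _).trans (Nat.le_succ _))
  have hqM : q.left.appTop (F ^ M) = fr ^ (m * M) := by rw [map_pow, hqF, pow_mul]
  have hnv : GLinShLib.nv hw = U := by
    refine d.eq_of_preimage_j (Opens.ext ?_)
    show j.left.base ⁻¹' GLinSh.nonvanishing B.π (F ^ M) = (j.left ⁻¹ᵁ U : Set Xr.left)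
    rw [← d.nonvanishing_eq ⟨hw, hi⟩, hqM, hU, hUr]
    exact GLinShLib.nonvanishing_pow fr (Nat.mul_pos hm hM)
  exact ⟨n * m * M, F ^ M, U, Nat.mul_pos (Nat.mul_pos hn hm) hM, ⟨hw, hi⟩,
    (congrArg (fun O : X.left.Opens => (O : Set X.left)) hnv).symm, hUa, hU⟩

end GLinRedLib
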